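import Cfsg.Agent.H675.TW.FEven
import Cfsg.Agent.H997.FE.Row
import Cfsg.Agent.H588.TW.Defs

/-!
# S2452, row `F₄(q)`, `q` even: complete (helper675, from helper237, helper335, helper997)
-/

set_option autoImplicit false

namespace Cfsg.Agent.H675.TW

open Cfsg.Lie
open Cfsg.Agent.H210.TC (Row3)

/-- **S2452, row `F₄(q)`, `q` even.** -/
theorem row3_F4_even_full {K : Type} [Field K] [Fintype K] (h2 : Even (Fintype.card K)) :
    Row3 ↥(chevF4.group K) :=
  row3_F4_even' h2 Cfsg.Agent.H997.FE.row3_F4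

theorem t52_F4_even_full {K : Type} [Field K] [Fintype K] (h2 : Even (Fintype.card K)) :
    Cfsg.Agent.H588.TW.T52 ↥(chevF4.group K) :=
  Cfsg.Agent.H588.TW.T52.of_row3 (row3_F4_even_full h2)

end Cfsg.Agent.H675.TW
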